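import Mathlib
import Groth.Agent.H06Conn.ReducedFibre
import Groth.Agent.H06Conn.Specialization
import Groth.Agent.H06Red.Scheme
import Groth.Agent.H19Grp.RegularSmooth
import Groth.Agent.H21Taylor.GeomInt
import Groth.Agent.H22Alg.EquidimComponent
import Groth.Agent.H4Depth.Regular

/-! Geometric integrality of the generic fibre of a proper flat scheme over a discrete valuation ring
with algebraically closed residue field and connected reduced special fibre. -/

set_option autoImplicit false
universe u
open CategoryTheory CategoryTheory.Limits AlgebraicGeometry TopologicalSpace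
open scoped TensorProduct

namespace Groth.Agent.H8Props.DvrCurve

variable {R : Type u} [CommRing R] [IsDomain R] [IsDiscreteValuationRing R]

/-- A connected reduced special fibre over an algebraically closed residue field forces a connected
geometric generic fibre. -/
theorem preconnectedSpace_geomGeneric [IsAlgClosed (IsLocalRing.ResidueField R)]
    {X : Scheme.{u}} (f : X ⟶ Spec (CommRingCat.of R)) [IsProper f] [Flat f]
    {Xs : Scheme.{u}} (gs : Xs ⟶ X) (fs : Xs ⟶ Spec (CommRingCat.of (IsLocalRing.ResidueField R)))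
    (hs : IsPullback gs fs f (Spec.map (CommRingCat.ofHom (IsLocalRing.residue R))))
    [ConnectedSpace Xs] [IsReduced (f.fiber (IsLocalRing.closedPoint R))] :
    PreconnectedSpace ↥(pullback f (Spec.map (CommRingCat.ofHom
      (algebraMap R (AlgebraicClosure (FractionRing R)))))) := by
  haveI : IsNoetherianRing R := inferInstance
  let y₀ : Spec (CommRingCat.of R) := IsLocalRing.closedPoint R
  let y₁ : Spec (CommRingCat.of R) := (⟨⊥, Ideal.isPrime_bot⟩ : PrimeSpectrum R)
  let a₁ := Spec.map (CommRingCat.ofHom (algebraMap R (AlgebraicClosure (FractionRing R))))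
  have ha₁ : a₁ (IsLocalRing.closedPoint _) = y₁ := H06Conn.genPt_apply _
  have hspec : y₁ ⤳ y₀ := (PrimeSpectrum.le_iff_specializes _ _).1 bot_le
  haveI : IsSepClosed (IsLocalRing.ResidueField R) := inferInstance
  have h0 := (H7Flat.GeomInt.nGeom_eq f (Spec.map (CommRingCat.ofHom (IsLocalRing.residue R)))
    (k := IsLocalRing.ResidueField R) (y := y₀) (H06Conn.closedι_apply _)).2
  have h1 : MoreMor.nGeomConnComp f y₀ ≤ 1 := by
    rw [← h0, ← H7Flat.GeomInt.card_connectedComponents_congr hs.isoPullback.hom.homeomorph,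
      ENat.card_le_one_iff_subsingleton]
    infer_instance
  haveI : (y₀.asIdeal).IsMaximal := IsLocalRing.maximalIdeal.isMaximal R
  let e : ↥((Spec (CommRingCat.of R)).residueField y₀) ≃+* IsLocalRing.ResidueField R :=
    (Scheme.Spec.residueFieldIso (CommRingCat.of R) y₀).commRingCatIsoToRingEquiv.trans
      (RingEquiv.ofBijective _ y₀.asIdeal.bijective_algebraMap_quotient_residueField).symm
  haveI : IsAlgClosed ↥((Spec (CommRingCat.of R)).residueField y₀) :=
    IsAlgClosed.of_ringEquiv _ _ e.symm
  haveI : IsReduced (f.fiber y₀) := ‹IsReduced (f.fiber (IsLocalRing.closedPoint R))›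
  have hperf : PerfectField ↥((Spec (CommRingCat.of R)).residueField y₀) := inferInstance
  have hgr : GeometricallyReduced (f.fiberToSpecResidueField y₀) :=
    @H06Red.geometricallyReduced_of_perfectField _ _ hperf _ (f.fiberToSpecResidueField y₀) _
  have h2 := H06Conn.nGeomConnComp_ge_of_specializes f hspec
    (fun x _ => H22Alg.EquidimComponent.isUnivOpenAt f x) hgr
  have h3 := H06Conn.card_le_nGeom f a₁
  rw [ha₁] at h3
  have h4 := (h3.trans h2).trans h1
  rw [ENat.card_le_one_iff_subsingleton] at h4
  exact preconnectedSpace_iff_connectedComponent.2 fun x => Set.eq_univ_of_forall fun y =>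
    ConnectedComponents.coe_eq_coe'.1 (Subsingleton.elim _ _)

/-- A smooth scheme over a field with connected base change is integral. -/
theorem isIntegral_of_smooth_connected {F : Type u} [Field F] {Y : Scheme.{u}}
    (g : Y ⟶ Spec (CommRingCat.of F)) [Smooth g] [PreconnectedSpace ↥Y] [Nonempty ↥Y] : IsIntegral Y := by
  have hd : ∀ y : Y, IsDomain (Y.presheaf.stalk y) := fun y => by
    haveI := H19Grp.isRegularLocalRing_stalk_of_smooth g y
    exact H4Depth.isDomain_of_isRegularLocalRing _
  haveI : IsLocallyNoetherian Y := LocallyOfFiniteType.isLocallyNoetherian g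
  haveI : ConnectedSpace ↥Y := ⟨‹_›⟩
  haveI := H21Taylor.irreducibleSpace_of_connected_of_domain_stalks Y hd
  haveI : ∀ y : Y, _root_.IsReduced (Y.presheaf.stalk y) := fun y => haveI := hd y; inferInstance
  haveI : IsReduced Y := isReduced_of_isReduced_stalk Y
  exact isIntegral_of_irreducibleSpace_of_isReduced Y

variable {B : Type u} [CommRing B] [IsDomain B] [IsDiscreteValuationRing B] [Algebra R B]

theorem algebraMap_injective_of_unramified
    (hm : IsLocalRing.maximalIdeal B = (IsLocalRing.maximalIdeal R).map (algebraMap R B)) :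
    Function.Injective (algebraMap R B) := by
  obtain ⟨ϖ, hϖ⟩ := IsDiscreteValuationRing.exists_irreducible R
  rw [injective_iff_map_eq_zero]
  intro r hr
  by_contra h0
  obtain ⟨n, u, rfl⟩ := IsDiscreteValuationRing.eq_unit_mul_pow_irreducible h0 hϖ
  have h1 : algebraMap R B ϖ = 0 := by
    rw [map_mul, map_pow] at hr
    exact pow_eq_zero_iff'.1 ((mul_eq_zero.1 hr).resolve_left (u.isUnit.map (algebraMap R B)).ne_zero) |>.1
  rw [hϖ.maximalIdeal_eq, Ideal.map_span, Set.image_singleton, h1, Set.singleton_zero,
    Ideal.span_zero] at hm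
  exact IsDiscreteValuationRing.not_a_field B hm

/-- Elements of an unramified extension of discrete valuation rings are units times elements of the base. -/
theorem exists_unit_mul_algebraMap
    (hm : IsLocalRing.maximalIdeal B = (IsLocalRing.maximalIdeal R).map (algebraMap R B))
    {b : B} (hb : b ≠ 0) : ∃ (u : Bˣ) (r : R), r ≠ 0 ∧ b = u * algebraMap R B r := by
  obtain ⟨ϖ, hϖ⟩ := IsDiscreteValuationRing.exists_irreducible R
  rw [hϖ.maximalIdeal_eq, Ideal.map_span, Set.image_singleton] at hm
  have hirr : Irreducible (algebraMap R B ϖ) := (IsDiscreteValuationRing.irreducible_iff_uniformizer _).2 hm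
  obtain ⟨n, u, h⟩ := IsDiscreteValuationRing.eq_unit_mul_pow_irreducible hb hirr
  exact ⟨u, ϖ ^ n, pow_ne_zero n hϖ.ne_zero, by rw [map_pow, h]⟩

/-- The tensor product with an algebraic closure is non-trivial. -/
theorem nontrivial_tensor (hinj : Function.Injective (algebraMap R B)) :
    Nontrivial (B ⊗[R] AlgebraicClosure (FractionRing R)) := by
  let K := FractionRing R
  let L := FractionRing B
  have hLinj : Function.Injective (algebraMap R L) := by
    rw [IsScalarTower.algebraMap_eq R B L]
    exact (IsFractionRing.injective B L).comp hinj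
  haveI : FaithfulSMul R L := (faithfulSMul_iff_algebraMap_injective R L).2 hLinj
  letI : Algebra K L := FractionRing.liftAlgebra R L
  let M := L ⊗[K] AlgebraicClosure K
  let f1 : B →ₐ[R] M :=
    ((Algebra.TensorProduct.includeLeft : L →ₐ[K] M).restrictScalars R).comp
      (IsScalarTower.toAlgHom R B L)
  let f2 : AlgebraicClosure K →ₐ[R] M :=
    (Algebra.TensorProduct.includeRight : AlgebraicClosure K →ₐ[K] M).restrictScalars R
  exact (Algebra.TensorProduct.lift f1 f2 fun _ _ => Commute.all _ _).toRingHom.domain_nontrivial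

omit [IsDiscreteValuationRing R] in
/-- Functions on an affine open base change to a domain when the base change of the scheme is integral. -/
theorem isDomain_tensor_of_isIntegral {X : Scheme.{u}} (f : X ⟶ Spec (CommRingCat.of R))
    (F : Type u) [CommRing F] [Algebra R F]
    [IsIntegral (pullback f (Spec.map (CommRingCat.ofHom (algebraMap R F))))]
    {A : Type u} [CommRing A] [Algebra R A] (j : Spec (CommRingCat.of A) ⟶ X) [IsOpenImmersion j]
    (hj : j ≫ f = Spec.map (CommRingCat.ofHom (algebraMap R A))) [Nontrivial (A ⊗[R] F)] :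
    IsDomain (A ⊗[R] F) := by
  let g := Spec.map (CommRingCat.ofHom (algebraMap R F))
  let e : Spec (CommRingCat.of (A ⊗[R] F)) ≅ pullback j (pullback.fst f g) :=
    (pullbackSpecIso R A F).symm ≪≫ pullback.congrHom hj.symm rfl ≪≫
      (pullbackRightPullbackFstIso f g j).symm
  let o := e.hom ≫ pullback.snd j (pullback.fst f g)
  haveI : IsOpenImmersion o := inferInstance
  haveI : Nonempty (Spec (CommRingCat.of (A ⊗[R] F))) := inferInstanceAs (Nonempty (PrimeSpectrum (A ⊗[R] F)))
  haveI : IsIntegral (Spec (CommRingCat.of (A ⊗[R] F))) := isIntegral_of_isOpenImmersion o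
  exact (affine_isIntegral_iff (CommRingCat.of (A ⊗[R] F))).1 inferInstance


omit [IsDomain B] [IsDiscreteValuationRing B] [IsDiscreteValuationRing R] in
/-- Base change of a localization to a domain stays a domain. -/
theorem isDomain_tensor_of_isLocalization {A : Type u} [CommRing A] [Algebra R A] [Algebra A B]
    [IsScalarTower R A B] (M : Submonoid A) [IsLocalization M B] (F : Type u) [CommRing F] [Algebra R F]
    [IsDomain (A ⊗[R] F)] [Nontrivial (B ⊗[R] F)] : IsDomain (B ⊗[R] F) := by
  let φ := Algebra.TensorProduct.map (IsScalarTower.toAlgHom R A B) (AlgHom.id R F)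
  letI : Algebra (A ⊗[R] F) (B ⊗[R] F) := φ.toRingHom.toAlgebra
  haveI : IsScalarTower A (A ⊗[R] F) (B ⊗[R] F) := IsScalarTower.of_algebraMap_eq fun a => by
    simp [RingHom.algebraMap_toAlgebra, φ]
  haveI := IsLocalization.tensorProduct_tensorProduct R F M B (A := A)
    (by ext x; simp [RingHom.algebraMap_toAlgebra, φ])
  refine IsLocalization.isDomain_of_le_nonZeroDivisors (B ⊗[R] F)
    (M := Algebra.algebraMapSubmonoid (A ⊗[R] F) M) (le_nonZeroDivisors_of_noZeroDivisors fun h0 => ?_)
  exact not_subsingleton (B ⊗[R] F) (IsLocalization.subsingleton h0)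

/-- The geometric generic base change of the local ring of a component of the special fibre is a field. -/
theorem isField_tensor [IsAlgClosed (IsLocalRing.ResidueField R)]
    {X : Scheme.{u}} (f : X ⟶ Spec (CommRingCat.of R)) [IsProper f] [Flat f]
    {XK : Scheme.{u}} {gK : XK ⟶ X} {fK : XK ⟶ Spec (CommRingCat.of (FractionRing R))}
    (hK : IsPullback gK fK f (Spec.map (CommRingCat.ofHom (algebraMap R (FractionRing R)))))
    [Smooth fK] [Nonempty ↥XK]
    {Xs : Scheme.{u}} (gs : Xs ⟶ X) (fs : Xs ⟶ Spec (CommRingCat.of (IsLocalRing.ResidueField R)))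
    (hs : IsPullback gs fs f (Spec.map (CommRingCat.ofHom (IsLocalRing.residue R))))
    [ConnectedSpace Xs] [IsReduced (f.fiber (IsLocalRing.closedPoint R))]
    (x : X) (e : X.presheaf.stalk x ≅ CommRingCat.of B)
    (he : e.hom.hom.comp ((X.presheaf.germ ⊤ x trivial).hom.comp (Coh.toGlobal f)) = algebraMap R B)
    (hm : IsLocalRing.maximalIdeal B = (IsLocalRing.maximalIdeal R).map (algebraMap R B)) :
    IsField (AlgebraicClosure (FractionRing R) ⊗[R] B) := by
  let K := FractionRing R
  let F := AlgebraicClosure K
  let g := Spec.map (CommRingCat.ofHom (algebraMap R F))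
  haveI hFS : FaithfulSMul R F := (faithfulSMul_iff_algebraMap_injective R F).2 (by
    rw [IsScalarTower.algebraMap_eq R K F]
    exact (algebraMap K F).injective.comp (IsFractionRing.injective R K))
  let gF := Spec.map (CommRingCat.ofHom (algebraMap K F))
  have hg : g = gF ≫ Spec.map (CommRingCat.ofHom (algebraMap R K)) := by
    rw [← Spec.map_comp, ← CommRingCat.ofHom_comp, ← IsScalarTower.algebraMap_eq]
  haveI : PreconnectedSpace ↥(pullback f g) := preconnectedSpace_geomGeneric f gs fs hs
  have hP : IsPullback (pullback.fst fK gF ≫ gK) (pullback.snd fK gF) f g := by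
    rw [hg]; exact (IsPullback.of_hasPullback fK gF).paste_horiz hK
  haveI : Smooth (pullback.snd fK gF) := MorphismProperty.pullback_snd fK gF ‹_›
  haveI : Smooth (pullback.snd f g) := by
    rw [← hP.isoPullback_inv_snd]; infer_instance
  haveI : Nonempty ↥(pullback f g) := by
    obtain ⟨y⟩ := ‹Nonempty ↥XK›
    obtain ⟨z, -⟩ := Scheme.Pullback.exists_preimage_pullback (f := fK) (g := gF) y
      (IsLocalRing.closedPoint F) (Subsingleton.elim (α := PrimeSpectrum K) _ _)
    exact ⟨hP.isoPullback.hom z⟩
  haveI : IsIntegral (pullback f g) := isIntegral_of_smooth_connected (pullback.snd f g)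
  obtain ⟨V, hV, hxV, -⟩ := exists_isAffineOpen_mem_and_subset (U := ⊤) (x := x) trivial
  let A := Γ(X, V)
  let φ : R →+* A := (X.presheaf.map (homOfLE le_top).op).hom.comp (Coh.toGlobal f)
  let ψ : A →+* B := e.hom.hom.comp (X.presheaf.germ V x hxV).hom
  letI : Algebra R A := φ.toAlgebra
  letI : Algebra A B := ψ.toAlgebra
  haveI : IsScalarTower R A B := IsScalarTower.of_algebraMap_eq' (by
    rw [← he]
    refine RingHom.ext fun r => congrArg e.hom.hom ?_
    exact (X.presheaf.germ_res_apply (homOfLE le_top) x hxV (Coh.toGlobal f r)).symm)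
  letI : Algebra A (X.presheaf.stalk x) := TopCat.Presheaf.algebra_section_stalk X.presheaf ⟨x, hxV⟩
  haveI : IsLocalization.AtPrime (X.presheaf.stalk x) (hV.primeIdealOf ⟨x, hxV⟩).asIdeal :=
    hV.isLocalization_stalk ⟨x, hxV⟩
  haveI : IsLocalization (hV.primeIdealOf ⟨x, hxV⟩).asIdeal.primeCompl B :=
    IsLocalization.isLocalization_of_algEquiv _
      (AlgEquiv.ofRingEquiv (f := e.commRingCatIsoToRingEquiv) fun _ => rfl : X.presheaf.stalk x ≃ₐ[A] B)
  have hj : hV.fromSpec ≫ f = Spec.map (CommRingCat.ofHom (algebraMap R A)) := by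
    have h1 := IsAffineOpen.SpecMap_appLE_fromSpec f (isAffineOpen_top (Spec (CommRingCat.of R))) hV (le_top : V ≤ f ⁻¹ᵁ ⊤)
    rw [← h1, IsAffineOpen.fromSpec_top, Scheme.isoSpec_Spec_inv, ← Spec.map_comp]
    congr 1
  have hinj := algebraMap_injective_of_unramified hm
  haveI : Nontrivial (B ⊗[R] F) := nontrivial_tensor hinj
  haveI : Nontrivial (A ⊗[R] F) :=
    (Algebra.TensorProduct.map (IsScalarTower.toAlgHom R A B) (AlgHom.id R F)).toRingHom.domain_nontrivial
  haveI : IsDomain (A ⊗[R] F) := isDomain_tensor_of_isIntegral f F hV.fromSpec hj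
  haveI : IsDomain (B ⊗[R] F) := isDomain_tensor_of_isLocalization (hV.primeIdealOf ⟨x, hxV⟩).asIdeal.primeCompl F
  refine MulEquiv.isField ?_ (Algebra.TensorProduct.comm R F B).toMulEquiv
  let D := B ⊗[R] F
  let ιB : B →+* D := (Algebra.TensorProduct.includeLeft : B →ₐ[R] D).toRingHom
  let ιF : F →+* D := (Algebra.TensorProduct.includeRight : F →ₐ[R] D).toRingHom
  have hBF : ∀ r : R, ιB (algebraMap R B r) = ιF (algebraMap R F r) := fun r =>
    ((Algebra.TensorProduct.includeLeft : B →ₐ[R] D).commutes r).trans
      ((Algebra.TensorProduct.includeRight : F →ₐ[R] D).commutes r).symm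
  have hunit : ∀ b : nonZeroDivisors B, IsUnit (ιB b) := fun b => by
    obtain ⟨v, r, hr, hb⟩ := exists_unit_mul_algebraMap hm (nonZeroDivisors.coe_ne_zero b)
    rw [hb, map_mul, hBF]
    exact (v.isUnit.map ιB).mul (((IsUnit.mk0 _ fun h => hr ((map_eq_zero_iff _
      (FaithfulSMul.algebraMap_injective R F)).1 h))).map ιF)
  let L := FractionRing B
  let τ : L →+* D := IsLocalization.lift hunit
  letI : Algebra L D := τ.toAlgebra
  have hint : Algebra.IsIntegral L D := by
    refine ⟨fun z => ?_⟩
    induction z using TensorProduct.induction_on with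
    | zero => exact isIntegral_zero
    | add a b ha hb => exact ha.add hb
    | tmul b t =>
      have hb : IsIntegral L (ιB b) := by
        rw [← IsLocalization.lift_eq (S := L) hunit b]; exact isIntegral_algebraMap
      have ht : IsIntegral L (ιF t) := by
        obtain ⟨P, hP1, hP2⟩ := (Algebra.IsIntegral.isIntegral (R := K) t)
        have hσ' : τ.comp (IsFractionRing.lift (K := K) (g := (algebraMap B L).comp (algebraMap R B))
            ((IsFractionRing.injective B L).comp hinj)) = ιF.comp (algebraMap K F) := by
          refine IsLocalization.ringHom_ext (nonZeroDivisors R) (RingHom.ext fun r => ?_)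
          simp only [RingHom.comp_apply, IsFractionRing.lift_algebraMap]
          rw [← IsScalarTower.algebraMap_apply R K F, ← hBF]
          exact IsLocalization.lift_eq hunit _
        refine ⟨P.map (IsFractionRing.lift (K := K) (g := (algebraMap B L).comp (algebraMap R B))
            ((IsFractionRing.injective B L).comp hinj)), hP1.map _, ?_⟩
        rw [Polynomial.eval₂_map, show (algebraMap L D) = τ from rfl, hσ', ← Polynomial.hom_eval₂, hP2, map_zero]
      have : b ⊗ₜ[R] t = ιB b * ιF t :=
        (Algebra.TensorProduct.tmul_mul_tmul b 1 1 t).trans (by rw [mul_one, one_mul]) |>.symm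
      rw [this]; exact hb.mul ht
  exact isField_of_isIntegral_of_isField' (Field.toIsField L)

end Groth.Agent.H8Props.DvrCurve
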