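import Groth.Agent.H8Props.DvrCurve.GeomInt

/-! Base change of an unramified, geometrically integral DVR along an algebraic extension of DVRs. -/

set_option autoImplicit false
universe u
open scoped TensorProduct

namespace Groth.Agent.H8Props.DvrCurve

variable {R : Type u} [CommRing R] [IsDomain R] [IsDiscreteValuationRing R]
variable {R' : Type u} [CommRing R'] [IsDomain R'] [IsDiscreteValuationRing R'] [Algebra R R']

/-- An algebraic extension of DVRs over an algebraically closed residue field has the same residues. -/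
theorem exists_residue [IsAlgClosed (IsLocalRing.ResidueField R)] [IsLocalHom (algebraMap R R')]
    (hinj : Function.Injective (algebraMap R R')) (halg : Algebra.IsAlgebraic R R') (x : R') :
    ∃ r : R, x - algebraMap R R' r ∈ IsLocalRing.maximalIdeal R' := by
  obtain ⟨P, hP0, hP⟩ := halg.isAlgebraic x
  obtain ⟨ϖ, hϖ⟩ := IsDiscreteValuationRing.exists_irreducible R
  obtain ⟨n, Q, hQ, rfl⟩ := WfDvdMonoid.max_power_factor hP0 (Polynomial.prime_C_iff.2 hϖ.prime).irreducible
  have hQ0 : Polynomial.aeval x Q = 0 := by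
    rw [map_mul, map_pow, Polynomial.aeval_C] at hP
    exact (mul_eq_zero.1 hP).resolve_left (pow_ne_zero _ ((map_ne_zero_iff _ hinj).2 hϖ.ne_zero))
  let q := Q.map (IsLocalRing.residue R)
  have hq : q ≠ 0 := by
    intro h
    refine hQ (Polynomial.C_dvd_iff_dvd_coeff ϖ Q |>.2 fun i => ?_)
    have := congrArg (fun p => Polynomial.coeff p i) h
    rw [Polynomial.coeff_map, Polynomial.coeff_zero, IsLocalRing.residue_eq_zero_iff, hϖ.maximalIdeal_eq,
      Ideal.mem_span_singleton] at this
    exact this
  let y := IsLocalRing.residue R' x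
  have hy : Polynomial.aeval y q = 0 := by
    rw [Polynomial.aeval_def, Polynomial.eval₂_map]
    have h := congrArg (IsLocalRing.residue R') hQ0
    rw [map_zero, Polynomial.aeval_def, Polynomial.hom_eval₂] at h
    exact h
  have hint : IsIntegral (IsLocalRing.ResidueField R) y := IsAlgebraic.isIntegral ⟨q, hq, hy⟩
  obtain ⟨c, hc⟩ := minpoly.mem_range_of_degree_eq_one (IsLocalRing.ResidueField R) y
    (IsAlgClosed.degree_eq_one_of_irreducible _ (minpoly.irreducible hint))
  obtain ⟨r, rfl⟩ := IsLocalRing.residue_surjective c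
  refine ⟨r, (IsLocalRing.residue_eq_zero_iff _).1 ?_⟩
  rw [map_sub, sub_eq_zero]
  exact hc.symm

variable {B : Type u} [CommRing B] [IsDomain B] [IsDiscreteValuationRing B] [Algebra R B]

/-- The base change is again a discrete valuation ring. -/
theorem isDiscreteValuationRing_tensor [IsAlgClosed (IsLocalRing.ResidueField R)]
    [IsLocalHom (algebraMap R R')] (hinj : Function.Injective (algebraMap R R'))
    (halg : Algebra.IsAlgebraic R R')
    (hm : IsLocalRing.maximalIdeal B = (IsLocalRing.maximalIdeal R).map (algebraMap R B))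
    (hF : IsField (AlgebraicClosure (FractionRing R) ⊗[R] B)) :
    ∃ _ : IsDomain (B ⊗[R] R'), IsDiscreteValuationRing (B ⊗[R] R') := by
  let K := FractionRing R
  let F := AlgebraicClosure K
  have hFinj : Function.Injective (algebraMap R F) := by
    rw [IsScalarTower.algebraMap_eq R K F]
    exact (algebraMap K F).injective.comp (IsFractionRing.injective R K)
  haveI : FaithfulSMul R F := (faithfulSMul_iff_algebraMap_injective R F).2 hFinj
  haveI : FaithfulSMul R R' := (faithfulSMul_iff_algebraMap_injective R R').2 hinj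
  have hBinj := algebraMap_injective_of_unramified hm
  haveI : FaithfulSMul R B := (faithfulSMul_iff_algebraMap_injective R B).2 hBinj
  haveI := halg
  let σ : R' →ₐ[R] F := IsAlgClosed.lift
  have hσ : Function.Injective σ := by
    refine (injective_iff_map_eq_zero σ).2 fun x hx => by_contra fun hx0 => ?_
    obtain ⟨a, ha, d, hd⟩ := (halg.isAlgebraic x).exists_nonzero_dvd (mem_nonZeroDivisors_of_ne_zero hx0)
    exact ha (hFinj (((σ.commutes a).symm.trans (congrArg σ hd)).trans (by rw [map_mul, hx, zero_mul, map_zero])))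
  haveI : IsDomain (B ⊗[R] F) :=
    ((Algebra.TensorProduct.comm R B F).toMulEquiv.isField hF).isDomain
  haveI : Module.Flat R B := IsDedekindDomain.flat_iff_torsion_eq_bot.2 (Submodule.isTorsionFree_iff_torsion_eq_bot.1 inferInstance)
  let Φ : B ⊗[R] R' →ₐ[B] B ⊗[R] F := Algebra.TensorProduct.map (AlgHom.id B B) σ
  have hΦ : Function.Injective Φ :=
    Module.Flat.lTensor_preserves_injective_linearMap (M := B) σ.toLinearMap hσ
  haveI hdom : IsDomain (B ⊗[R] R') := hΦ.isDomain Φ.toRingHom
  refine ⟨hdom, ?_⟩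
  let C := B ⊗[R] R'
  obtain ⟨p, hp⟩ := IsDiscreteValuationRing.exists_irreducible R'
  let p' : C := 1 ⊗ₜ p
  let ιR : R' →+* C := (Algebra.TensorProduct.includeRight : R' →ₐ[R] C).toRingHom
  have hmem : ∀ x ∈ IsLocalRing.maximalIdeal R', ιR x ∈ Ideal.span {p'} := fun x hx => by
    rw [hp.maximalIdeal_eq, Ideal.mem_span_singleton] at hx
    exact Ideal.mem_span_singleton.2 ((map_dvd ιR hx))
  have hcomm : ∀ r : R, algebraMap B C (algebraMap R B r) = ιR (algebraMap R R' r) := fun r =>
    (((Algebra.TensorProduct.includeLeft : B →ₐ[R] C).commutes r).trans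
      ((Algebra.TensorProduct.includeRight : R' →ₐ[R] C).commutes r).symm)
  have hB : ∀ b ∈ IsLocalRing.maximalIdeal B, algebraMap B C b ∈ Ideal.span {p'} := by
    intro b hb
    rw [hm] at hb
    exact (Ideal.map_le_iff_le_comap.2 fun r hr => Ideal.mem_comap.2 (Ideal.mem_comap.2
      ((hcomm r).symm ▸ hmem _ (((IsLocalRing.local_hom_TFAE (algebraMap R R')).out 0 4).1 ‹_› ▸ hr :)))) hb
  have hdec : ∀ c : C, ∃ b : B, c - algebraMap B C b ∈ Ideal.span {p'} := by
    intro c
    induction c using TensorProduct.induction_on with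
    | zero => exact ⟨0, by simp⟩
    | add a b ha hb =>
      obtain ⟨a', ha'⟩ := ha
      obtain ⟨b', hb'⟩ := hb
      exact ⟨a' + b', by rw [map_add, add_sub_add_comm]; exact add_mem ha' hb'⟩
    | tmul b x =>
      obtain ⟨r, hr⟩ := exists_residue hinj halg x
      refine ⟨b * algebraMap R B r, ?_⟩
      have h : b ⊗ₜ[R] x = algebraMap B C b * ιR x :=
        ((Algebra.TensorProduct.tmul_mul_tmul b 1 1 x).trans (by rw [mul_one, one_mul])).symm
      rw [h, map_mul, hcomm, ← mul_sub, ← map_sub]
      exact Ideal.mul_mem_left _ _ (hmem _ hr)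
  haveI : IsLocalHom (algebraMap R B) :=
    ⟨fun r hr => by_contra fun hu => (IsLocalRing.mem_maximalIdeal _).1
      (hm ▸ Ideal.mem_map_of_mem (algebraMap R B) (show r ∈ IsLocalRing.maximalIdeal R from hu)) hr⟩
  have hRk : ∀ x : R', ∃ r : R, x - algebraMap R R' r ∈ IsLocalRing.maximalIdeal R' := exists_residue hinj halg
  let ρ : R →+* IsLocalRing.ResidueField R' := (IsLocalRing.residue R').comp (algebraMap R R')
  have hρ : Function.Bijective (IsLocalRing.ResidueField.map (algebraMap R R')) := by
    refine ⟨RingHom.injective _, fun z => ?_⟩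
    obtain ⟨x, rfl⟩ := IsLocalRing.residue_surjective z
    obtain ⟨r, hr⟩ := hRk x
    refine ⟨IsLocalRing.residue R r, ?_⟩
    rw [IsLocalRing.ResidueField.map_residue, eq_comm, ← sub_eq_zero, ← map_sub]
    exact (IsLocalRing.residue_eq_zero_iff _).2 hr
  let ee := RingEquiv.ofBijective _ hρ
  let κ : R' →+* IsLocalRing.ResidueField B :=
    ((IsLocalRing.ResidueField.map (algebraMap R B)).comp ee.symm.toRingHom).comp (IsLocalRing.residue R')
  have hκ : ∀ r : R, κ (algebraMap R R' r) = algebraMap R (IsLocalRing.ResidueField B) r := by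
    intro r
    have h1 : ee (IsLocalRing.residue R r) = IsLocalRing.residue R' (algebraMap R R' r) :=
      IsLocalRing.ResidueField.map_residue _ r
    show IsLocalRing.ResidueField.map (algebraMap R B) (ee.symm (IsLocalRing.residue R' (algebraMap R R' r))) = _
    rw [← h1, RingEquiv.symm_apply_apply, IsLocalRing.ResidueField.map_residue]
    rfl
  let θ : C →ₐ[R] IsLocalRing.ResidueField B := Algebra.TensorProduct.lift
    (IsScalarTower.toAlgHom R B (IsLocalRing.ResidueField B)) { toRingHom := κ, commutes' := hκ }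
    (fun _ _ => Commute.all _ _)
  have hθp : θ p' = 0 := by
    have h0 : IsLocalRing.residue R' p = 0 := (IsLocalRing.residue_eq_zero_iff _).2 hp.not_isUnit
    show θ ((1 : B) ⊗ₜ[R] p) = 0
    rw [Algebra.TensorProduct.lift_tmul]
    exact mul_eq_zero_of_right _ ((congrArg (fun z => IsLocalRing.ResidueField.map (algebraMap R B) (ee.symm z)) h0).trans (by simp))
  have hp0 : p' ≠ 0 := fun h => hp.ne_zero (hσ (by
    have h2 : Φ p' = 0 := by rw [h, map_zero]
    have h3 : (1 : B) ⊗ₜ[R] σ p = 0 := h2
    by_contra hne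
    have hu : IsUnit ((1 : B) ⊗ₜ[R] σ p) :=
      (IsUnit.mk0 (σ p) (by simpa using hne)).map (Algebra.TensorProduct.includeRight : F →ₐ[R] B ⊗[R] F)
    exact hu.ne_zero h3))
  have hprime : Prime p' := by
    rw [← Ideal.span_singleton_prime hp0]
    refine Ideal.IsMaximal.isPrime (Ideal.isMaximal_iff.2 ⟨fun h1 => ?_, fun J c hJ hc hcJ => ?_⟩)
    · obtain ⟨d, hd⟩ := Ideal.mem_span_singleton.1 h1
      exact one_ne_zero ((map_one θ).symm.trans ((congrArg θ hd).trans (by rw [map_mul, hθp, zero_mul])))
    · obtain ⟨b, hb⟩ := hdec c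
      have hbu : IsUnit b := by_contra fun h => hc (by
        simpa using add_mem hb (hB b (by simpa [IsLocalRing.mem_maximalIdeal, mem_nonunits_iff] using h)))
      have h2 : algebraMap B C b ∈ J := by simpa using sub_mem hcJ (hJ hb)
      exact Ideal.eq_top_of_isUnit_mem _ h2 (hbu.map _) ▸ Submodule.mem_top
  obtain ⟨ϖ, hϖ⟩ := IsDiscreteValuationRing.exists_irreducible R
  obtain ⟨m, v, hv⟩ := IsDiscreteValuationRing.eq_unit_mul_pow_irreducible
    ((map_ne_zero_iff _ hinj).2 hϖ.ne_zero) hp
  refine IsDiscreteValuationRing.ofHasUnitMulPowIrreducibleFactorization ⟨p', hprime.irreducible, fun {c} hc => ?_⟩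
  obtain ⟨a, ha, hca⟩ : ∃ a : B, a ≠ 0 ∧ c ∣ algebraMap B C a := by
    haveI : Module.IsTorsionFree B C := (Module.isTorsionFree_iff_algebraMap_injective (R := B) (A := C)).2 (fun a b hab => by
      have h1 : algebraMap B (B ⊗[R] F) a = algebraMap B (B ⊗[R] F) b :=
        ((Φ.commutes a).symm.trans (congrArg Φ hab)).trans (Φ.commutes b)
      exact Algebra.TensorProduct.includeLeft_injective (S := R) (A := B) (B := F) hFinj h1)
    have hz : ∀ z : C, IsAlgebraic B z := by
      intro z
      induction z using TensorProduct.induction_on with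
      | zero => exact isAlgebraic_zero
      | add a b ha hb => exact ha.add hb
      | tmul b x =>
        obtain ⟨P, hP0, hP⟩ := halg.isAlgebraic x
        have hx : IsAlgebraic B (ιR x) := by
          refine ⟨P.map (algebraMap R B), (Polynomial.map_ne_zero_iff hBinj).2 hP0, ?_⟩
          rw [Polynomial.aeval_map_algebraMap]
          exact (Polynomial.aeval_algHom_apply (Algebra.TensorProduct.includeRight : R' →ₐ[R] C) x P).trans
            (by rw [hP, map_zero])
        have h : b ⊗ₜ[R] x = algebraMap B C b * ιR x :=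
          ((Algebra.TensorProduct.tmul_mul_tmul b 1 1 x).trans (by rw [mul_one, one_mul])).symm
        rw [h]; exact (isAlgebraic_algebraMap b).mul hx
    obtain ⟨a, ha, hca⟩ := (hz c).exists_nonzero_dvd (mem_nonZeroDivisors_of_ne_zero hc)
    exact ⟨a, ha, hca⟩
  obtain ⟨u, r, hr, rfl⟩ := exists_unit_mul_algebraMap hm ha
  obtain ⟨n, w, rfl⟩ := IsDiscreteValuationRing.eq_unit_mul_pow_irreducible hr hϖ
  obtain ⟨i, -, hi⟩ : ∃ i ≤ m * n, Associated c (p' ^ i) := by
    refine (dvd_prime_pow hprime _).1 (hca.trans (Associated.dvd ?_))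
    rw [map_mul, hcomm, map_mul, map_mul, map_pow, map_pow, hv, map_mul, map_pow, mul_pow, ← pow_mul]
    exact (associated_unit_mul_left _ _ (u.isUnit.map _)).trans
      ((associated_unit_mul_left _ _ ((w.isUnit.map _).map _)).trans
        (associated_unit_mul_left _ _ ((v.isUnit.map ιR).pow n)))
  exact ⟨i, hi.symm⟩

end Groth.Agent.H8Props.DvrCurve
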